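import Cfsg.Agent.Lib.Fus2.Dich
import Cfsg.Agent.Lib.Fus2.NormE

/-!
`E`-balance for fusion systems.
-/

set_option autoImplicit false

namespace Cfsg.Agent.Fus2

open Cfsg Cfsg.FusionSystem Cfsg.Agent.Fus Cfsg.Agent.Asch

variable {Ω : Type*} [Group Ω] {S T R U V X Y : Subgroup Ω} {F : FusionSystem S}
  {E : FusionSystem T} {D : FusionSystem R} {C : FusionSystem U} {K : FusionSystem V} {p : ℕ}

variable [Finite S] [Fact p.Prime] (hS : IsPGroup p S)
include hS

theorem le_of_inf_normalizerIn_le (hT : F.StronglyClosed T) (hX : X ≤ S)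
    (h : T ⊓ normalizerIn S X ≤ X) : T ≤ X := by
  by_contra hne
  obtain ⟨g, hg, hg', hg''⟩ := exists_mem_normalizer_of_not_le hS hX hT.1
    (hX.trans (sc_le_normalizer hT)) hne
  exact hg'' (h ⟨hg, hT.1 hg, hg'⟩)

/-- A component centralizing a normal subgroup `X` and the group of a normal subsystem is a
component of the centralizer of their product. -/
theorem component_cent_sup (hE : Nor p E F) (hX : F.IsNormal X) (hK : K.IsComponentIn F p)
    (h : Cent K F T) (hC : IsNK F (X ⊔ T) ⊥ C) : K.IsComponentIn C p := by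
  obtain ⟨D₁, h₁, c₁, -⟩ := hE.exists_centralizer hS
  have hC' := isCentralizerSystem_centralizerSystem F hX.1
  have h₂ := Asch.isNormalIn_iff.1 (centralizer_isNormalIn hS hE.satF hX hC')
  obtain ⟨D, h₃, h₄, h₅⟩ := wedge hS h₁ h₂
  have hK' := component_of_le hS hK h₃ (le_inf (le_cenE_of_cent hS hE hK.2.2.1 h)
    (le_of_isSubsystemOf (component_sub_centralizer hS hE.satF hK hX hC')))
  have hc : Cent D F (X ⊔ T) := (h₃.cent_iff_le hS).2 (sup_le
    (h₃.le_cenE hS ((cent_iff_sub hC').2 h₅.isSubsystemOf)) (h₃.le_cenE hS (c₁.sub h₄.sub)))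
  have := finite_of_le hC.le
  exact ⟨subnormal_step_nor hK'.1 (nor_cent_of_cent hS h₃ (fullyCentralized_of_weaklyClosed
    (sc_weaklyClosed (sc_sup hS hE.satF (sc_of_isNormal hX) hE.sc))) hc hC), hK.2⟩

/-- The components of the normalizer systems lie over the group of the layer. -/
theorem component_normalizer_le (hE : E.IsLayerOf F p) (hX : F.IsFullyNormalized X)
    (hD : IsNK F X ⊤ D) (hK : K.IsComponentIn D p) : V ≤ T := by
  have hn := Asch.isNormalIn_iff.1 hE.1
  have hF := hn.satF
  have key : ∀ X, X ≤ S → F.IsFullyNormalized X → ∀ {R V : Subgroup Ω} {D : FusionSystem R}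
      {K : FusionSystem V}, IsNK F X ⊤ D → K.IsComponentIn D p → V ≤ T := by
    refine induction_card_down fun X _ ih hX R V N K hN hK => ?_
    obtain rfl : R = normalizerIn S X := hN.1.trans (normK_top X)
    have hN' := isNormalizerSystem_iff.2 hN
    have hS' := isPGroup_of_le hS hN.le
    obtain ⟨D, hD, -⟩ := exists_nor_normalizer hS hn hX hN'
    rcases component_dichotomy hS' hK hD with h | h
    · exact (le_of_isSubsystemOf (subnormal_isSubsystemOf h)).trans inf_le_left
    have hX' := isNormal_sup (isNormal_normalizer hN' hX.1)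
      (isNormal_inf_sub hS hD.satF hN.isSubsystemOf (isNormal_core F))
    have hsc := sc_sup hS' hD.satF (sc_of_isNormal hX') hD.sc
    set Y := X ⊔ F.core ⊓ normalizerIn S X ⊔ T ⊓ normalizerIn S X with hY
    have hXY : X ≤ Y := le_sup_left.trans le_sup_left
    have hYc := IsNK.fullyCentralized' hS hF hN hX hXY
      (fullyCentralized_of_weaklyClosed (sc_weaklyClosed hsc))
    have hC := isNK_nkSystem F hYc.1 ⊥ _ (normK_bot Y).symm
    have hKC := component_cent_sup hS' hD hX' hK h ((hN.cent_iff hXY hsc.1).2 hC)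
    have hVC := le_of_isSubsystemOf (subnormal_isSubsystemOf hKC.1)
    by_cases hle : Y ≤ X
    · have h1 := le_of_inf_normalizerIn_le hS (sc_of_isNormal (isNormal_core F)) hX.1
        ((le_sup_right.trans le_sup_left).trans hle)
      have h2 := le_of_inf_normalizerIn_le hS hn.sc hX.1 (le_sup_right.trans hle)
      have hc := ((cent_iff_sub (isCentralizerSystem_iff.2 hC)).2
        (subnormal_isSubsystemOf hKC.1)).mono ((sup_le h1 h2).trans hXY)
      have := finite_of_le hn.le
      have := finite_of_le (core_le F)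
      obtain ⟨H, hH⟩ := (cPre_core_layer hS hE).exists_cp
      exact absurd hc (not_cent_of_le hS hK.2 (((le_cenE_of_cent hS (nor_fitting hS hE hH)
        hK.2.2.1 hc).trans (cenE_fitting_le hS hE hH)).trans le_sup_left))
    obtain ⟨a, ha, hY'⟩ := sat_exists_normalizer_map hS hF hYc.1
    have hC' := isNK_nkSystem F hY'.1 ⊥ _ rfl
    have hN₁ := isNK_nkSystem F hY'.1 ⊤ _ (normK_top _).symm
    obtain ⟨b, -, -, hiso⟩ := exists_isoM_centralizer hYc ha (le_normalizerIn hYc.1)
      (centralizerIn_le_normalizerIn _) hC hC'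
    obtain ⟨K', hK'⟩ := (hiso.toGIso.restrict hVC).exists_isoM K
    have hK'' := hiso.isComponentIn hK' (isPGroup_of_le hS hC.le) hKC
    have := finite_of_le hYc.1
    have h3 := ih _ hY'.1 (((ha.mono (le_normalizerIn hYc.1)).card_img).symm ▸
      card_lt_of_lt (lt_of_le_of_ne hXY fun e => hle e.ge)) hY' hN₁
      ⟨hK''.1.step (IsNK.isNormalIn_cent' hS hF hY' hN₁ le_rfl
        (isNormal_normalizer (isNormalizerSystem_iff.2 hN₁) hY'.1) hC'), hK''.2⟩
    exact fun x hx => (ha.mem_iff_of_sc hn.sc (centralizerIn_le_normalizerIn _ (hVC hx))).1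
      (h3 (mem_img_of_mem a hx))
  exact key X hX.1 hX hD hK

/-- **`E`-balance.** -/
theorem layer_normalizer_sub (hE : E.IsLayerOf F p) (hX : F.IsFullyNormalized X)
    {N : FusionSystem (normalizerIn S X)} (hN : F.IsNormalizerSystem X N) (hC : C.IsLayerOf N p) :
    C.IsSubsystemOf E := by
  obtain ⟨D, hD, hDE⟩ := exists_nor_normalizer hS (Asch.isNormalIn_iff.1 hE.1) hX hN
  exact sub_trans (hC.2.2 _ D (Asch.isNormalIn_iff.2 hD) fun V K hK => subnormal_isSubsystemOf
    (component_of_le (isPGroup_of_le hS (normalizerIn_le X)) hK hD (le_inf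
      (component_normalizer_le hS hE hX (isNormalizerSystem_iff.1 hN) hK)
      (le_of_isSubsystemOf (subnormal_isSubsystemOf hK.1)))).1) hDE

end Cfsg.Agent.Fus2
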